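/-
Bi-additive forms on a field of characteristic three invariant under a pair of torus characters.
-/
import Cfsg.Agent.H50.InvBilinear

set_option autoImplicit false

namespace Cfsg.Agent.H64.ReeMult

universe u v

variable {F : Type v} [Field F]

/-- No nonzero bi-additive form is invariant under the characters `χ₁`, `χ₂`. -/
def NoTwist (χ₁ χ₂ : Fˣ →* Fˣ) : Prop :=
  ∀ (W : Type u) [AddCommGroup W] (φ : F →+ F →+ W),
    (∀ t x y, φ ((χ₁ t : F) * x) ((χ₂ t : F) * y) = φ x y) → φ = 0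

theorem NoTwist.apply {χ₁ χ₂ : Fˣ →* Fˣ} (h : NoTwist.{u} χ₁ χ₂) {W : Type u} [CommGroup W]
    (φ : F → F → W) (hl : ∀ x x' y, φ (x + x') y = φ x y * φ x' y)
    (hr : ∀ x y y', φ x (y + y') = φ x y * φ x y')
    (hi : ∀ t x y, φ ((χ₁ t : F) * x) ((χ₂ t : F) * y) = φ x y) (x y : F) : φ x y = 1 := by
  let c : F →+ F →+ Additive W :=
    AddMonoidHom.mk' (fun a => AddMonoidHom.mk' (fun b => Additive.ofMul (φ a b))
        (fun b b' => congrArg Additive.ofMul (hr a b b')))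
      (fun a a' => AddMonoidHom.ext fun b => congrArg Additive.ofMul (hl a a' b))
  have hc : c = 0 := h (Additive W) c fun t a b => congrArg Additive.ofMul (hi t a b)
  exact Additive.ofMul.injective (DFunLike.congr_fun (DFunLike.congr_fun hc x) y)

theorem NoTwist.symm {χ₁ χ₂ : Fˣ →* Fˣ} (h : NoTwist.{u} χ₁ χ₂) : NoTwist.{u} χ₂ χ₁ := by
  intro W _ φ hφ
  have h0 := h W φ.flip fun t x y => by
    rw [AddMonoidHom.flip_apply, AddMonoidHom.flip_apply, hφ]
  ext x y
  have := DFunLike.congr_fun (DFunLike.congr_fun h0 y) x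
  rwa [AddMonoidHom.flip_apply] at this

/-- A sign distinguishing the characters. -/
theorem noTwist_sign (h3 : (3 : F) = 0) {χ₁ χ₂ : Fˣ →* Fˣ} (h1 : χ₁ (-1) = -1)
    (h2 : χ₂ (-1) = 1) : NoTwist.{u} χ₁ χ₂ := by
  intro W _ φ hφ
  ext x y
  have e := hφ (-1) x y
  rw [h1, h2, Units.val_neg, Units.val_one, neg_mul, one_mul, one_mul, map_neg,
    AddMonoidHom.neg_apply] at e
  have e3 : φ x y + φ x y + φ x y = 0 := by
    rw [← AddMonoidHom.add_apply, ← map_add, ← AddMonoidHom.add_apply, ← map_add,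
      show x + x + x = 0 by linear_combination x * h3, map_zero, AddMonoidHom.zero_apply]
  rw [AddMonoidHom.zero_apply, AddMonoidHom.zero_apply]
  calc φ x y = (φ x y + φ x y + φ x y) - (φ x y - -φ x y) := by abel
    _ = 0 := by rw [e3, e, sub_self, sub_zero]

variable [Fintype F] [CharP F 3] {m : ℕ}

omit [CharP F 3] in
theorem range_spans (χ : Fˣ →* Fˣ)
    (hχ : ∀ y, χ y = 1 → y ^ 2 = 1) (S : Submonoid F)
    (hS : ∀ y, (χ y : F) ∈ S) (h0 : (0 : F) ∉ S) : AddSubgroup.closure (S : Set F) = ⊤ := by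
  classical
  refine H50.closure_submonoid_eq_top S h0 ?_
  have hk : Nat.card χ.ker ≤ 2 := by
    have hsub : ((fun y : χ.ker => ((y : Fˣ) : F)) '' Set.univ) ⊆ ({1, -1} : Set F) := by
      rintro _ ⟨⟨y, hy⟩, -, rfl⟩
      have := congrArg Units.val (hχ y hy)
      rw [Units.val_pow_eq_pow_val, Units.val_one] at this
      simpa using sq_eq_one_iff.1 this
    have hinj : Function.Injective fun y : χ.ker => ((y : Fˣ) : F) := fun a b h =>
      Subtype.ext (Units.ext h)
    have := Set.ncard_le_ncard hsub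
    rw [Set.ncard_image_of_injective _ hinj, Set.ncard_univ] at this
    exact this.trans ((Set.ncard_insert_le _ _).trans (by rw [Set.ncard_singleton]))
  have hr : Nat.card Fˣ = Nat.card χ.range * Nat.card χ.ker := by
    rw [Subgroup.card_eq_card_quotient_mul_card_subgroup χ.ker,
      Nat.card_congr (QuotientGroup.quotientKerEquivRange χ).toEquiv]
  have hS' : Nat.card χ.range ≤ Nat.card S := by
    refine Nat.card_le_card_of_injective
      (fun y : χ.range => (⟨((y : Fˣ) : F), by obtain ⟨z, hz⟩ := y.2; rw [← hz]; exact hS z⟩ : S)) ?_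
    intro a b h
    exact Subtype.ext (Units.ext (congrArg Subtype.val h))
  have hq : Fintype.card F ≤ 2 * Nat.card S + 1 := by
    rw [← Nat.card_eq_fintype_card]
    have h1 : Nat.card Fˣ = Nat.card F - 1 := Nat.card_units F
    have h2 : Nat.card χ.range * Nat.card χ.ker ≤ Nat.card χ.range * 2 :=
      Nat.mul_le_mul_left _ hk
    omega
  have : 1 ≤ Nat.card S := Nat.card_pos
  nlinarith

/-- One character twice. -/
theorem noTwist_self (hm : 1 ≤ m) (hF : Fintype.card F = 3 ^ (2 * m + 1)) (χ : Fˣ →* Fˣ)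
    (hχ : ∀ y, χ y = 1 → y ^ 2 = 1) : NoTwist.{u} χ χ := by
  intro W _ φ hφ
  by_contra hne
  have := Fact.mk Nat.prime_three
  let S : Submonoid F := Submonoid.map ((Units.coeHom F).comp χ) ⊤
  have hS : ∀ y, (χ y : F) ∈ S := fun y => ⟨y, trivial, rfl⟩
  have h0 : (0 : F) ∉ S := by rintro ⟨t, -, ht⟩; simp at ht
  have hspan := range_spans χ hχ S hS h0
  obtain ⟨ψ, hψ⟩ := H50.exists_ringHom_of_invariant φ S h0 hspan id
    (by rwa [Set.image_id]) (fun s hs h => h0 (h ▸ hs))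
    (by rintro _ ⟨t, -, rfl⟩ x y; exact hφ t x y) hne
  obtain ⟨i, hi, hψi⟩ := H50.exists_pow_of_ringHom 3 (2 * m + 1) hF ψ
  obtain ⟨g, hg⟩ := IsCyclic.exists_ofOrder_eq_natCard (α := Fˣ)
  have h1 := hψ _ (hS g)
  rw [hψi, id_eq, ← pow_succ, ← Units.val_pow_eq_pow_val, Units.val_eq_one, ← map_pow] at h1
  have h2 := hχ _ h1
  rw [← pow_mul] at h2
  have h3 := orderOf_dvd_of_pow_eq_one h2
  rw [hg, Nat.card_units, Nat.card_eq_fintype_card, hF] at h3
  have h4 := Nat.le_of_dvd (by positivity) h3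
  have h5 : 3 ^ i ≤ 3 ^ (2 * m) := Nat.pow_le_pow_right (by norm_num) (by omega)
  have h6 : 9 ≤ 3 ^ (2 * m) := le_trans (by norm_num) (Nat.pow_le_pow_right (by norm_num) (show 2 ≤ 2 * m by omega))
  rw [pow_succ 3 (2 * m)] at h4
  omega

/-- The characters `y ↦ y² / y^(3e)` and `y ↦ y^e`. -/
theorem noTwist_top_bottom {e : ℕ} (he : 1 < e) (hcard : Fintype.card F = 3 * e ^ 2)
    (hadd : ∀ a b : F, (a + b) ^ e = a ^ e + b ^ e) (hodd : Odd e)
    (χ₁ χ₂ : Fˣ →* Fˣ) (h1 : ∀ y, χ₁ y = ((y ^ e) ^ 3)⁻¹ * y ^ 2) (h2 : ∀ y, χ₂ y = y ^ e)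
    (hinj : Function.Injective χ₁) : NoTwist.{u} χ₁ χ₂ := by
  intro W _ φ hφ
  classical
  by_contra hne
  have h3 : (3 : F) = 0 := by exact_mod_cast CharP.cast_eq_zero F 3
  have hsurj := Finite.injective_iff_surjective.1 hinj
  have hq : (Nat.card Fˣ).Coprime e := by
    rw [Nat.card_units, Nat.card_eq_fintype_card, hcard, Nat.coprime_comm]
    refine Nat.coprime_of_dvd fun k hk hk1 hk2 => ?_
    have h' : k ∣ 3 * e ^ 2 := Dvd.dvd.mul_left (hk1.trans (dvd_pow_self e two_ne_zero)) 3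
    have := Nat.dvd_sub h' hk2
    rw [show 3 * e ^ 2 - (3 * e ^ 2 - 1) = 1 by
      have : 1 ≤ 3 * e ^ 2 := by nlinarith
      omega] at this
    exact hk.ne_one (Nat.dvd_one.1 this)
  let inv₁ := Function.surjInv hsurj
  let μ : F → F := fun s =>
    if h : s = 0 then 1 else (χ₂ (inv₁ (Units.mk0 s h)) : F)
  have hμ : ∀ t, μ (χ₁ t : F) = (χ₂ t : F) := fun t => by
    show (if h : (χ₁ t : F) = 0 then (1 : F) else _) = _
    rw [dif_neg (χ₁ t).ne_zero, Units.mk0_val]
    exact congrArg (fun u => ((χ₂ u : Fˣ) : F)) (hinj (Function.surjInv_eq hsurj _))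
  let S : Submonoid F := Submonoid.map (Units.coeHom F) ⊤
  have hS : ∀ y : Fˣ, (y : F) ∈ S := fun y => ⟨y, trivial, rfl⟩
  have h0 : (0 : F) ∉ S := by rintro ⟨t, -, ht⟩; simp at ht
  have hspan : AddSubgroup.closure (S : Set F) = ⊤ := by
    rw [eq_top_iff]
    intro x _
    rcases eq_or_ne x 0 with rfl | hx
    · exact zero_mem _
    · exact AddSubgroup.subset_closure (hS (Units.mk0 x hx))
  have hμspan : AddSubgroup.closure (μ '' (S : Set F)) = ⊤ := by
    rw [eq_top_iff, ← hspan]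
    refine AddSubgroup.closure_mono ?_
    rintro _ ⟨s, -, rfl⟩
    obtain ⟨r, hr⟩ : ∃ r : Fˣ, r ^ e = s :=
      ⟨(powCoprime hq).symm s, (powCoprime hq).apply_symm_apply s⟩
    exact ⟨(χ₁ r : F), hS (χ₁ r), by rw [hμ, h2, hr]; rfl⟩
  have hμ0 : ∀ s ∈ S, μ s ≠ 0 := by
    rintro _ ⟨t, -, rfl⟩
    obtain ⟨r, rfl⟩ := hsurj t
    show μ (χ₁ r : F) ≠ 0
    rw [hμ]; exact Units.ne_zero _
  obtain ⟨ψ, hψ⟩ := H50.exists_ringHom_of_invariant φ S h0 hspan μ hμspan hμ0 (by
    rintro _ ⟨t, -, rfl⟩ x y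
    obtain ⟨r, rfl⟩ := hsurj t
    show φ ((χ₁ r : F) * x) (μ (χ₁ r : F) * y) = _
    rw [hμ, hφ]) hne
  have key : ∀ x : F, ψ x ^ 2 * x ^ e = ψ (x ^ (3 * e)) := by
    intro x
    rcases eq_or_ne x 0 with rfl | hx
    · rw [zero_pow (by omega), zero_pow (by omega), map_zero, mul_zero]
    have := hψ _ (hS (χ₁ (Units.mk0 x hx)))
    rw [hμ, h1, h2, ← pow_mul, Units.val_mul, Units.val_inv_eq_inv_val, Units.val_pow_eq_pow_val,
      Units.val_pow_eq_pow_val, Units.val_pow_eq_pow_val, Units.val_mk0, map_mul, map_inv₀,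
      map_pow ψ x 2, mul_comm e 3] at this
    have hne0 : ψ (x ^ (3 * e)) ≠ 0 := (map_ne_zero ψ).2 (pow_ne_zero _ hx)
    field_simp at this
    linear_combination this
  have hti : ∀ a b : F, (a + b) ^ (3 * e) = a ^ (3 * e) + b ^ (3 * e) := fun a b => by
    rw [mul_comm, pow_mul, hadd, pow_mul, pow_mul]
    have := Fact.mk Nat.prime_three
    exact add_pow_char ..
  have hP : ∀ x : F, ψ x = x ^ e := by
    intro x
    have ep := key (x + 1)
    have en := key (x + -1)
    rw [map_add, map_one, hadd, one_pow, hti, one_pow, map_add, map_one] at ep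
    rw [map_add, map_neg, map_one, hadd, hodd.neg_one_pow, hti,
      (Odd.mul (show Odd 3 by decide) hodd).neg_one_pow, map_add, map_neg, map_one] at en
    linear_combination ep + en - 2 * key x - (ψ x + x ^ e) * h3
  have hid : ∀ x : F, x ^ (3 * e) = x := by
    intro x
    have h := key x
    rw [hP, hP, ← pow_mul, ← pow_mul] at h
    rw [← pow_add, show 3 * e * e = 3 * e ^ 2 by ring, ← hcard, FiniteField.pow_card,
      show e * 2 + e = 3 * e by ring] at h
    exact h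
  obtain ⟨g, hg⟩ := IsCyclic.exists_ofOrder_eq_natCard (α := Fˣ)
  have hg1 : g ^ (3 * e - 1) = 1 := by
    refine mul_right_cancel (b := g) ?_
    rw [← pow_succ, show 3 * e - 1 + 1 = 3 * e by omega, one_mul]
    exact Units.ext (by rw [Units.val_pow_eq_pow_val, hid])
  have h4 := Nat.le_of_dvd (by omega) (orderOf_dvd_of_pow_eq_one hg1)
  rw [hg, Nat.card_units, Nat.card_eq_fintype_card, hcard] at h4
  have : 3 * e < 3 * e ^ 2 := by nlinarith
  omega

end Cfsg.Agent.H64.ReeMult
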