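/-
The 3-part of the multiplier of a group with a Ree-like Borel subgroup.
-/
import Cfsg.Agent.H64.ReeMult.Forms
import Cfsg.Agent.H50.SchurRigid
import Cfsg.Agent.H50.CommForm

set_option autoImplicit false

namespace Cfsg.Agent.H64.ReeMult

open scoped commutatorElement
open Subgroup

universe u v

/-- Coordinates on a Ree-like Borel subgroup with torus action. -/
structure Borel (F : Type v) (G : Type u) [Field F] [Group G] where
  v : F → F → F → G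
  split : ∀ a c d, v a c d = v a 0 0 * v 0 c d
  add : ∀ c d c' d', v 0 c d * v 0 c' d' = v 0 (c + c') (d + d')
  f : F → F → F
  f_zero : ∀ a, f a 0 = 0
  comm : ∀ a c d, v 0 c d * v a 0 0 = v a c (d + f a c)
  g : F → F → F
  k : F → F → F
  addTop : ∀ a a', v a 0 0 * v a' 0 0 = v (a + a') (g a a') (k a a')
  χa : Fˣ →* Fˣ
  χc : Fˣ →* Fˣ
  χd : Fˣ →* Fˣ
  h : Fˣ →* G
  conj : ∀ t a c d, h t * v a c d * (h t)⁻¹ =
    v ((χa t : F) * a) ((χc t : F) * c) ((χd t : F) * d)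

namespace Borel

variable {F : Type v} {G : Type u} [Field F] [Group G] (B : Borel F G)

theorem v_zero : B.v 0 0 0 = 1 :=
  mul_eq_left.1 (by rw [B.add, add_zero] : B.v 0 0 0 * B.v 0 0 0 = B.v 0 0 0)

theorem v_inv (c d : F) : (B.v 0 c d)⁻¹ = B.v 0 (-c) (-d) :=
  inv_eq_of_mul_eq_one_right (by rw [B.add, add_neg_cancel, add_neg_cancel, B.v_zero])

theorem v_comm (c d c' d' : F) : Commute (B.v 0 c d) (B.v 0 c' d') := by
  show _ = _; rw [B.add, B.add, add_comm c, add_comm d]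

theorem v_central (a d : F) : Commute (B.v 0 0 d) (B.v a 0 0) := by
  show _ = _; rw [B.comm, B.f_zero, add_zero, B.split]

/-- The subgroup of elements with trivial top coordinate. -/
def low : Subgroup G where
  carrier := {x | ∃ c d, x = B.v 0 c d}
  one_mem' := ⟨0, 0, B.v_zero.symm⟩
  mul_mem' := by rintro _ _ ⟨c, d, rfl⟩ ⟨c', d', rfl⟩; exact ⟨_, _, B.add ..⟩
  inv_mem' := by rintro _ ⟨c, d, rfl⟩; exact ⟨_, _, B.v_inv ..⟩

theorem top_mul (a a' : F) : (B.v a 0 0 * B.v a' 0 0) = B.v (a + a') 0 0 *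
    B.v 0 (B.g a a') (B.k a a') := by rw [B.addTop, B.split]

theorem top_conj (a c d : F) :
    B.v a 0 0 * B.v 0 c d * (B.v a 0 0)⁻¹ = B.v 0 c (d - B.f a c) := by
  have e : B.v 0 c (d - B.f a c) * B.v a 0 0 = B.v a 0 0 * B.v 0 c d := by
    rw [B.comm, sub_add_cancel, B.split]
  rw [← e, mul_inv_cancel_right]

theorem top_bottom (a c : F) : ⁅B.v a 0 0, B.v 0 c 0⁆ = B.v 0 0 (-B.f a c) := by
  rw [commutatorElement_def, B.top_conj, B.v_inv, B.add, add_neg_cancel, neg_zero, add_zero,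
    zero_sub]

variable [Fintype F]

/-- The 3-part of the multiplier is trivial when no twist works. -/
theorem three_part (U : Subgroup G) (hU : ∀ x, x ∈ U ↔ ∃ a c d, B.v a c d = x)
    (hidx : Nat.Coprime 3 U.index) (hq : Nat.Coprime 3 (Nat.card Fˣ))
    (ncc : NoTwist.{u} B.χc B.χc) (ncd : NoTwist.{u} B.χc B.χd) (ndd : NoTwist.{u} B.χd B.χd)
    (nad : NoTwist.{u} B.χa B.χd) (nac : NoTwist.{u} B.χa B.χc) (naa : NoTwist.{u} B.χa B.χa)
    {Γ : Type u} [Group Γ] [Finite Γ] {σ : Γ →* G} (hσ : IsStemExtension σ)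
    (z : Γ) (hz : z ∈ σ.ker) (hzp : z ^ 3 = 1) : z = 1 := by
  classical
  obtain ⟨hzU, hzc⟩ := H50.mem_commutator_comap hσ U hidx z hz hzp
  obtain ⟨s, hs⟩ : ∃ s : F → F → F → Γ, ∀ a c d, σ (s a c d) = B.v a c d :=
    ⟨fun a c d => (hσ.1 (B.v a c d)).choose, fun a c d => (hσ.1 (B.v a c d)).choose_spec⟩
  obtain ⟨T, hT⟩ : ∃ T : Fˣ → Γ, ∀ t, σ (T t) = B.h t :=
    ⟨fun t => (hσ.1 (B.h t)).choose, fun t => (hσ.1 (B.h t)).choose_spec⟩
  have cen : ∀ {w : Γ}, σ w = 1 → ∀ g : Γ, Commute g w := fun hw g =>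
    mem_center_iff.1 (hσ.2.1 (MonoidHom.mem_ker.2 hw)) g
  have lift : ∀ {g g' : Γ}, σ g = σ g' → ∃ w, σ w = 1 ∧ g = g' * w := fun {g g'} hgg =>
    ⟨g'⁻¹ * g, by simp [hgg], by group⟩
  have indep : ∀ {g k g' k' : Γ}, σ g = σ g' → σ k = σ k' → ⁅g, k⁆ = ⁅g', k'⁆ := by
    intro g k g' k' e1 e2
    obtain ⟨w1, hw1, rfl⟩ := lift e1
    obtain ⟨w2, hw2, rfl⟩ := lift e2
    rw [H50.commutator_mul_left_of_commute (cen hw1 _).symm,
      H50.commutator_mul_right_of_commute (cen hw2 _)]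
  have hconjs : ∀ t a c d, σ (T t * s a c d * (T t)⁻¹) =
      σ (s ((B.χa t : F) * a) ((B.χc t : F) * c) ((B.χd t : F) * d)) := fun t a c d => by
    rw [map_mul, map_mul, map_inv, hT, hs, hs, B.conj]
  have conjComm : ∀ (t : Fˣ) (g k : Γ),
      ⁅T t * g * (T t)⁻¹, T t * k * (T t)⁻¹⁆ = T t * ⁅g, k⁆ * (T t)⁻¹ := fun t g k => by
    simp only [commutatorElement_def]; group
  let K : Subgroup Γ := σ.ker
  let _ : CommGroup K :=
    { (inferInstance : Group K) with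
      mul_comm := fun x y => Subtype.ext (cen (MonoidHom.mem_ker.1 y.2) x).eq }
  -- a kernel-valued invariant form vanishes
  have form_zero : ∀ (χ₁ χ₂ : Fˣ →* Fˣ), NoTwist.{u} χ₁ χ₂ → ∀ (p r : F → Γ),
      (∀ x x', ∃ w, (∀ y, Commute w (r y)) ∧ p (x + x') = p x * p x' * w) →
      (∀ y y', ∃ w, σ w = 1 ∧ r (y + y') = r y * r y' * w) →
      (∀ x y, Commute (σ (p x)) (σ (r y))) →
      (∀ t x, σ (T t * p x * (T t)⁻¹) = σ (p ((χ₁ t : F) * x))) →
      (∀ t y, σ (T t * r y * (T t)⁻¹) = σ (r ((χ₂ t : F) * y))) →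
      ∀ x y, Commute (p x) (r y) := by
    intro χ₁ χ₂ hn p r hp hr hpr hTp hTr x y
    have hk : ∀ x y, σ ⁅p x, r y⁆ = 1 := fun x y => by
      rw [map_commutatorElement, commutatorElement_eq_one_iff_commute]; exact hpr x y
    have al := H50.commForm_add_left p r hp
      (fun x x' y => cen (hk x y) _) (fun x x' y => cen (hk x' y) _)
    have ar := H50.commForm_add_right p r
      (fun y y' => by obtain ⟨w, hw, e⟩ := hr y y'; exact ⟨w, fun _ => cen hw _, e⟩)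
      (fun x y y' => cen (hk x y) _) (fun x y y' => cen (hk x y') _)
    have h0 := hn.apply (fun x y => (⟨⁅p x, r y⁆, hk x y⟩ : K))
      (fun a a' b => Subtype.ext (al a a' b)) (fun a b b' => Subtype.ext (ar a b b'))
      (fun t a b => Subtype.ext (by
        show ⁅p _, r _⁆ = ⁅p a, r b⁆
        rw [indep (hTp t a).symm (hTr t b).symm, conjComm, (cen (hk a b) (T t)).eq,
          mul_inv_cancel_right])) x y
    exact commutatorElement_eq_one_iff_commute.1 (congrArg Subtype.val h0)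
  let rc : F → Γ := fun c => s 0 c 0
  let rd : F → Γ := fun d => s 0 0 d
  let ra : F → Γ := fun a => s a 0 0
  have hrc : ∀ y y', ∃ w, σ w = 1 ∧ rc (y + y') = rc y * rc y' * w := fun y y' =>
    lift (by simp only [rc, map_mul, hs, B.add, add_zero])
  have hrd : ∀ y y', ∃ w, σ w = 1 ∧ rd (y + y') = rd y * rd y' * w := fun y y' =>
    lift (by simp only [rd, map_mul, hs, B.add, add_zero])
  have Tc : ∀ t y, σ (T t * rc y * (T t)⁻¹) = σ (rc ((B.χc t : F) * y)) := fun t y => by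
    simp only [rc, hconjs, mul_zero]
  have Td : ∀ t y, σ (T t * rd y * (T t)⁻¹) = σ (rd ((B.χd t : F) * y)) := fun t y => by
    simp only [rd, hconjs, mul_zero]
  have Ta : ∀ t y, σ (T t * ra y * (T t)⁻¹) = σ (ra ((B.χa t : F) * y)) := fun t y => by
    simp only [ra, hconjs, mul_zero]
  have kerAdd : ∀ (p r : F → Γ), (∀ y y', ∃ w, σ w = 1 ∧ p (y + y') = p y * p y' * w) →
      ∀ x x', ∃ w, (∀ y, Commute w (r y)) ∧ p (x + x') = p x * p x' * w := fun p r hp x x' => by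
    obtain ⟨w, hw, e⟩ := hp x x'; exact ⟨w, fun _ => (cen hw _).symm, e⟩
  have cc : ∀ x y, Commute (rc x) (rc y) := form_zero _ _ ncc rc rc (kerAdd _ _ hrc) hrc
    (fun x y => by simpa only [rc, hs] using B.v_comm x 0 y 0) Tc Tc
  have cd : ∀ x y, Commute (rc x) (rd y) := form_zero _ _ ncd rc rd (kerAdd _ _ hrc) hrd
    (fun x y => by simpa only [rc, rd, hs] using B.v_comm x 0 0 y) Tc Td
  have dd : ∀ x y, Commute (rd x) (rd y) := form_zero _ _ ndd rd rd (kerAdd _ _ hrd) hrd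
    (fun x y => by simpa only [rd, hs] using B.v_comm 0 x 0 y) Td Td
  -- the preimage of the low part is abelian
  let W : Subgroup Γ := B.low.comap σ
  have hWdec : ∀ g ∈ W, ∃ c d w, σ w = 1 ∧ g = rc c * rd d * w := by
    rintro g ⟨c, d, hg⟩
    obtain ⟨w, hw, e⟩ := lift (g := g) (g' := rc c * rd d)
      (by rw [map_mul]; simp only [rc, rd, hs, B.add, add_zero, zero_add]; exact hg)
    exact ⟨c, d, w, hw, e⟩
  have hWc : ∀ g ∈ W, ∀ k ∈ W, Commute g k := by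
    intro g hg k hk
    obtain ⟨c, d, w, hw, rfl⟩ := hWdec g hg
    obtain ⟨c', d', w', hw', rfl⟩ := hWdec k hk
    exact ((((cc c c').mul_right (cd c d')).mul_left ((cd c' d).symm.mul_right (dd d d'))).mul_right
      (cen hw' _)).mul_left (cen hw _).symm
  have hmemW : ∀ c d, s 0 c d ∈ W := fun c d => ⟨c, d, hs 0 c d⟩
  have hkerW : ∀ {w}, σ w = 1 → w ∈ W := fun hw => ⟨0, 0, by rw [hw, B.v_zero]⟩
  have hra : ∀ x x', ∃ w ∈ W, ra (x + x') = ra x * ra x' * w := fun x x' => by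
    refine ⟨(ra x * ra x')⁻¹ * ra (x + x'), ?_, by group⟩
    refine ⟨-B.g x x', -B.k x x', ?_⟩
    simp only [ra, map_mul, map_inv, hs]
    rw [B.top_mul, _root_.mul_inv_rev, mul_assoc, inv_mul_cancel, mul_one, B.v_inv]
  have ad : ∀ x y, Commute (ra x) (rd y) := form_zero _ _ nad ra rd
    (fun x x' => by
      obtain ⟨w, hw, e⟩ := hra x x'; exact ⟨w, fun y => hWc w hw _ (hmemW 0 y), e⟩) hrd
    (fun x y => by simpa only [ra, rd, hs] using (B.v_central x y).symm) Ta Td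
  -- averaging over the torus
  let _ : CommGroup W :=
    { (inferInstance : Group W) with mul_comm := fun x y => Subtype.ext (hWc x x.2 y y.2).eq }
  have hcW : ∀ t : Fˣ, ∀ g ∈ W, T t * g * (T t)⁻¹ ∈ W := by
    rintro t g ⟨c, d, hg⟩
    exact ⟨(B.χc t : F) * c, (B.χd t : F) * d,
      by rw [map_mul, map_mul, map_inv, hT, hg, B.conj, mul_zero]⟩
  let A : W →* W :=
    { toFun := fun w => ∏ t : Fˣ, (⟨T t * w * (T t)⁻¹, hcW t w w.2⟩ : W)
      map_one' := Finset.prod_eq_one fun t _ => Subtype.ext (by simp)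
      map_mul' := fun x y => by
        rw [← Finset.prod_mul_distrib]
        refine Finset.prod_congr rfl fun t _ => Subtype.ext ?_
        push_cast
        group }
  have A_conj : ∀ (r : Fˣ) (g : Γ) (hg : g ∈ W) (hg' : T r * g * (T r)⁻¹ ∈ W),
      A ⟨_, hg'⟩ = A ⟨g, hg⟩ := by
    intro r g hg hg'
    show (∏ t : Fˣ, (⟨T t * (T r * g * (T r)⁻¹) * (T t)⁻¹, _⟩ : W)) =
      ∏ t : Fˣ, (⟨T t * g * (T t)⁻¹, _⟩ : W)
    refine Fintype.prod_equiv (Equiv.mulRight r) _ _ fun t => Subtype.ext ?_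
    show T t * (T r * g * (T r)⁻¹) * (T t)⁻¹ = T (t * r) * g * (T (t * r))⁻¹
    obtain ⟨w, hw, e⟩ := lift (g := T (t * r)) (g' := T t * T r)
      (by rw [map_mul, hT, hT, hT, map_mul])
    rw [e]
    calc T t * (T r * g * (T r)⁻¹) * (T t)⁻¹ = T t * T r * g * (T t * T r)⁻¹ := by group
      _ = T t * T r * (w * g * w⁻¹) * (T t * T r)⁻¹ := by
          rw [← (cen hw g).eq, mul_inv_cancel_right]
      _ = _ := by group
  have A_congr : ∀ {g g' : Γ} (hg : g ∈ W) (hg' : g' ∈ W), g = g' → A ⟨g, hg⟩ = A ⟨g', hg'⟩ :=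
    fun _ _ e => congrArg A (Subtype.ext e)
  -- the bottom layer commutes with the top
  have hac : ∀ x y, ∃ d w, σ w = 1 ∧ ⁅ra x, rc y⁆ = rd d * w := fun x y => by
    refine ⟨-B.f x y, lift ?_⟩
    rw [map_commutatorElement]
    simp only [ra, rc, rd, hs, B.top_bottom]
  have hacW : ∀ x y, ⁅ra x, rc y⁆ ∈ W := fun x y => by
    obtain ⟨d, w, hw, e⟩ := hac x y; rw [e]; exact mul_mem (hmemW 0 d) (hkerW hw)
  have hacA : ∀ x y, A ⟨_, hacW x y⟩ = 1 := by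
    have al := H50.commForm_add_left ra rc
      (fun x x' => by
        obtain ⟨w, hw, e⟩ := hra x x'; exact ⟨w, fun y => hWc w hw _ (hmemW y 0), e⟩)
      (fun x x' y => by
        obtain ⟨d, w, hw, e⟩ := hac x y; rw [e]; exact (ad x' d).mul_right (cen hw _))
      (fun x x' y => hWc _ (hacW x y) _ (hacW x' y))
    have ar := H50.commForm_add_right ra rc
      (fun y y' => by obtain ⟨w, hw, e⟩ := hrc y y'; exact ⟨w, fun _ => cen hw _, e⟩)
      (fun x y y' => hWc _ (hmemW y' 0) _ (hacW x y))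
      (fun x y y' => hWc _ (hacW x y) _ (hacW x y'))
    refine nac.apply (fun x y => A ⟨_, hacW x y⟩) (fun a a' b => ?_) (fun a b b' => ?_)
      (fun t a b => ?_)
    · rw [← map_mul]; exact A_congr _ _ (al a a' b)
    · rw [← map_mul]; exact A_congr _ _ (ar a b b')
    · have e : ⁅ra ((B.χa t : F) * a), rc ((B.χc t : F) * b)⁆ = T t * ⁅ra a, rc b⁆ * (T t)⁻¹ := by
        rw [indep (Ta t a).symm (Tc t b).symm, conjComm]
      rw [A_congr _ (hcW t _ (hacW a b)) e, A_conj]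
  -- conjugation invariance of the average
  let P : Subgroup Γ := U.comap σ
  have hPdec : ∀ g ∈ P, ∃ a, ∃ w ∈ W, g = ra a * w := by
    intro g hg
    obtain ⟨a, c, d, he⟩ := (hU (σ g)).1 hg
    refine ⟨a, (ra a)⁻¹ * g, ⟨c, d, ?_⟩, by group⟩
    simp only [ra, map_mul, map_inv, hs, ← he]
    rw [B.split a c d, inv_mul_cancel_left]
  have hraW : ∀ a, ∀ g ∈ W, ra a * g * (ra a)⁻¹ ∈ W := by
    rintro a g ⟨c, d, hg⟩
    refine ⟨c, d - B.f a c, ?_⟩
    rw [map_mul, map_mul, map_inv, hg]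
    simp only [ra, hs, B.top_conj]
  have hPW : ∀ g ∈ P, ∀ k ∈ W, g * k * g⁻¹ ∈ W := by
    intro g hg k hk
    obtain ⟨a, w, hw, rfl⟩ := hPdec g hg
    rw [show ra a * w * k * (ra a * w)⁻¹ = ra a * (w * k * w⁻¹) * (ra a)⁻¹ by group,
      (hWc w hw k hk).eq, mul_inv_cancel_right]
    exact hraW a k hk
  have hAP : ∀ (g : Γ) (hg : g ∈ P) (k : Γ) (hk : k ∈ W),
      A ⟨_, hPW g hg k hk⟩ = A ⟨k, hk⟩ := by
    intro g hg k hk
    obtain ⟨a, w, hw, rfl⟩ := hPdec g hg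
    obtain ⟨c, d, w', hw', rfl⟩ := hWdec k hk
    have e : ra a * w * (rc c * rd d * w') * (ra a * w)⁻¹ = ⁅ra a, rc c⁆ * (rc c * rd d * w') := by
      rw [show ra a * w * (rc c * rd d * w') * (ra a * w)⁻¹ =
        ra a * (w * (rc c * rd d * w') * w⁻¹) * (ra a)⁻¹ by group, (hWc w hw _ hk).eq,
        mul_inv_cancel_right, commutatorElement_def]
      calc ra a * (rc c * rd d * w') * (ra a)⁻¹
          = ra a * rc c * (rd d * w' * (ra a)⁻¹) := by group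
        _ = ra a * rc c * ((ra a)⁻¹ * (rd d * w')) := by
            rw [((ad a d).mul_right (cen hw' _)).inv_left.eq]
        _ = _ := by group
    rw [A_congr _ (mul_mem (hacW a c) hk) e,
      show (⟨_, mul_mem (hacW a c) hk⟩ : W) = ⟨_, hacW a c⟩ * ⟨_, hk⟩ from rfl, map_mul, hacA,
      one_mul]
  -- the averaged commutator pairing
  have hraP : ∀ a, ra a ∈ P := fun a => (hU _).2 ⟨a, 0, 0, (hs a 0 0).symm⟩
  have hcP : ∀ g ∈ P, ∀ k ∈ P, ⁅g, k⁆ ∈ W := by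
    have prod : ∀ g ∈ P, ∀ k ∈ P, ∀ a a', ∀ w ∈ W, ∀ w' ∈ W, g = ra a * w → k = ra a' * w' →
        ∃ x ∈ W, g * k = ra (a + a') * x := by
      rintro g - k - a a' w hw w' hw' rfl rfl
      obtain ⟨x, hx, ex⟩ := hra a a'
      refine ⟨x⁻¹ * ((ra a')⁻¹ * w * (ra a')⁻¹⁻¹) * w',
        mul_mem (mul_mem (inv_mem hx) (hPW _ (inv_mem (hraP a')) w hw)) hw', ?_⟩
      rw [ex]; group
    intro g hg k hk
    obtain ⟨a, w, hw, eg⟩ := hPdec g hg
    obtain ⟨a', w', hw', ek⟩ := hPdec k hk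
    obtain ⟨x, hx, e1⟩ := prod g hg k hk a a' w hw w' hw' eg ek
    obtain ⟨y, hy, e2⟩ := prod k hk g hg a' a w' hw' w hw ek eg
    rw [show ⁅g, k⁆ = g * k * (k * g)⁻¹ by rw [commutatorElement_def]; group, e1, e2,
      add_comm a' a, show ra (a + a') * x * (ra (a + a') * y)⁻¹ =
        ra (a + a') * (x * y⁻¹) * (ra (a + a'))⁻¹ by group]
    exact hraW _ _ (mul_mem hx (inv_mem hy))
  let Φ : P → P → W := fun g k => A ⟨⁅(g : Γ), (k : Γ)⁆, hcP g g.2 k k.2⟩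
  have Φ_left : ∀ g g' k : P, Φ (g * g') k = Φ g k * Φ g' k := by
    intro g g' k
    have e : ⁅(g : Γ) * g', (k : Γ)⁆ = g * ⁅(g' : Γ), (k : Γ)⁆ * (g : Γ)⁻¹ * ⁅(g : Γ), (k : Γ)⁆ := by
      simp only [commutatorElement_def]; group
    show A ⟨⁅(g : Γ) * g', (k : Γ)⁆, _⟩ = _
    rw [A_congr _ (mul_mem (hPW g g.2 _ (hcP g' g'.2 k k.2)) (hcP g g.2 k k.2)) e,
      show (⟨_, mul_mem (hPW g g.2 _ (hcP g' g'.2 k k.2)) (hcP g g.2 k k.2)⟩ : W) =
        ⟨_, hPW g g.2 _ (hcP g' g'.2 k k.2)⟩ * ⟨_, hcP g g.2 k k.2⟩ from rfl, map_mul, hAP _ g.2]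
    exact mul_comm _ _
  have Φ_symm : ∀ g k : P, Φ k g = (Φ g k)⁻¹ := by
    intro g k
    show A _ = (A _)⁻¹
    rw [← map_inv]
    exact congrArg A (Subtype.ext (commutatorElement_inv (g : Γ) k).symm)
  have hWP : ∀ w ∈ W, w ∈ P := by
    rintro w ⟨c, d, e⟩; exact (hU _).2 ⟨0, c, d, e.symm⟩
  have Φ_low : ∀ g w : P, (w : Γ) ∈ W → Φ g w = 1 := by
    intro g w hw
    show A ⟨⁅(g : Γ), (w : Γ)⁆, _⟩ = 1
    rw [A_congr _ (mul_mem (hPW g g.2 w hw) (inv_mem hw)) (commutatorElement_def (g : Γ) w),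
      show (⟨_, mul_mem (hPW g g.2 w hw) (inv_mem hw)⟩ : W) = ⟨_, hPW g g.2 w hw⟩ * ⟨w, hw⟩⁻¹
        from rfl, map_mul, map_inv, hAP _ g.2]
    exact mul_inv_cancel _
  have Φ_low' : ∀ g w : P, (w : Γ) ∈ W → Φ w g = 1 := fun g w hw => by
    rw [Φ_symm, Φ_low g w hw, inv_one]
  have Φ_right : ∀ g k k' : P, Φ g (k * k') = Φ g k * Φ g k' := by
    intro g k k'
    rw [Φ_symm (k * k') g, Φ_left, mul_inv, ← Φ_symm k g, ← Φ_symm k' g]
  let ρ : F → P := fun x => ⟨ra x, hraP x⟩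
  have hΦ0 : ∀ x y, Φ (ρ x) (ρ y) = 1 := by
    have al : ∀ x x' y, Φ (ρ (x + x')) (ρ y) = Φ (ρ x) (ρ y) * Φ (ρ x') (ρ y) := fun x x' y => by
      obtain ⟨w, hw, e⟩ := hra x x'
      rw [show ρ (x + x') = ρ x * ρ x' * ⟨w, hWP w hw⟩ from Subtype.ext e,
        Φ_left, Φ_low' (ρ y) ⟨w, hWP w hw⟩ hw, mul_one, Φ_left]
    refine naa.apply (fun x y => Φ (ρ x) (ρ y)) al (fun x y y' => ?_) (fun t x y => ?_)
    · rw [Φ_symm (ρ (y + y')), al, mul_inv, ← Φ_symm, ← Φ_symm]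
    · show A _ = A _
      have e : ⁅ra ((B.χa t : F) * x), ra ((B.χa t : F) * y)⁆ = T t * ⁅ra x, ra y⁆ * (T t)⁻¹ := by
        rw [indep (Ta t x).symm (Ta t y).symm, conjComm]
      rw [A_congr _ (hcW t _ (hcP _ (hraP x) _ (hraP y))) e, A_conj]
  -- conclusion
  let N : Subgroup Γ := A.ker.map W.subtype
  have hzN : z ∈ N := by
    have : _root_.commutator ↥P ≤ N.comap P.subtype := by
      rw [_root_.commutator_def, commutator_le]
      intro g _ k _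
      refine ⟨⟨⁅(g : Γ), (k : Γ)⁆, hcP g g.2 k k.2⟩, ?_, rfl⟩
      show Φ g k = 1
      obtain ⟨a, w, hw, eg⟩ := hPdec g g.2
      obtain ⟨a', w', hw', ek⟩ := hPdec k k.2
      rw [show g = ρ a * ⟨w, hWP w hw⟩ from Subtype.ext eg,
        show k = ρ a' * ⟨w', hWP w' hw'⟩ from Subtype.ext ek,
        Φ_left, Φ_low' _ ⟨w, hWP w hw⟩ hw, mul_one, Φ_right, Φ_low _ ⟨w', hWP w' hw'⟩ hw', mul_one, hΦ0]
    exact this hzc
  obtain ⟨⟨z', hz'W⟩, hz'A, rfl⟩ := hzN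
  have hval : A ⟨z', hz'W⟩ = (⟨z', hz'W⟩ : W) ^ Nat.card Fˣ := by
    show ∏ t : Fˣ, _ = _
    rw [Finset.prod_congr rfl (g := fun _ => (⟨z', hz'W⟩ : W)) fun t _ => Subtype.ext (by
      show T t * z' * (T t)⁻¹ = z'
      exact mul_inv_eq_iff_eq_mul.2 (cen (MonoidHom.mem_ker.1 hz) (T t)).eq), Finset.prod_const,
      Finset.card_univ, Nat.card_eq_fintype_card]
  have h1 : z' ^ Nat.card Fˣ = 1 := congrArg Subtype.val (hval.symm.trans hz'A)
  have h2 := pow_gcd_eq_one.2 ⟨hzp, h1⟩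
  rwa [hq.gcd_eq_one, pow_one] at h2

end Borel

end Cfsg.Agent.H64.ReeMult
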