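/-
Cyclic subgroups of index prime to `l`: nonsplit tori of `SL₂` and a Singer torus inside `GL₇`.
-/
import Mathlib

set_option autoImplicit false

namespace Cfsg.Agent.H64.ReeMult

open Matrix

/-- An element of order `q + 1` in `SL₂(q)`. -/
theorem exists_sl_two_order {F : Type*} [Field F] [Fintype F] :
    ∃ g : Matrix.SpecialLinearGroup (Fin 2) F, orderOf g = Nat.card F + 1 := by
  classical
  obtain ⟨p, hp⟩ := CharP.exists F
  have := Fact.mk (CharP.char_is_prime F p)
  let E := FiniteField.Extension F p 2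
  have hE : Nat.card E = Nat.card F ^ 2 := FiniteField.natCard_extension F p 2
  let b : Module.Basis (Fin 2) F E :=
    Module.finBasisOfFinrankEq F E (FiniteField.finrank_extension F p 2)
  obtain ⟨g, hg⟩ := IsCyclic.exists_ofOrder_eq_natCard (α := Eˣ)
  set h := g ^ (Nat.card F - 1) with hh
  have hdet : (Algebra.leftMulMatrix b (h : E)).det = 1 := by
    have hu : IsUnit (Algebra.norm F (g : E)) := (g.isUnit).map (Algebra.norm F)
    rw [← Algebra.norm_eq_matrix_det, hh, Units.val_pow_eq_pow_val, map_pow, Nat.card_eq_fintype_card]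
    exact FiniteField.pow_card_sub_one_eq_one _ hu.ne_zero
  let M : Matrix.SpecialLinearGroup (Fin 2) F := ⟨Algebra.leftMulMatrix b (h : E), hdet⟩
  refine ⟨M, ?_⟩
  have hord : ∀ n : ℕ, M ^ n = 1 ↔ h ^ n = 1 := fun n => by
    have e : ((M ^ n : Matrix.SpecialLinearGroup (Fin 2) F) : Matrix (Fin 2) (Fin 2) F) =
        Algebra.leftMulMatrix b ((h ^ n : Eˣ) : E) := by
      rw [Matrix.SpecialLinearGroup.coe_pow, Units.val_pow_eq_pow_val, map_pow]
    constructor
    · intro hn
      refine Units.ext (Algebra.leftMulMatrix_injective b ?_)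
      rw [← e, hn, Units.val_one, map_one]; rfl
    · intro hn
      exact Subtype.ext (e.trans (by rw [hn, Units.val_one, map_one]; rfl))
  have hq : 2 ≤ Nat.card F := Finite.one_lt_card
  have : orderOf h = Nat.card F + 1 := by
    rw [hh, orderOf_pow, hg, Nat.card_units, hE,
      show Nat.card F ^ 2 - 1 = (Nat.card F - 1) * (Nat.card F + 1) by
        rw [mul_comm, ← Nat.sq_sub_sq, one_pow],
      Nat.gcd_eq_right (dvd_mul_right _ _), Nat.mul_div_cancel_left _ (by omega)]
  rw [← this]
  exact (orderOf_eq_orderOf_iff.2 hord)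

/-- A Sylow subgroup of a subgroup of `GL₇(q)` for a prime dividing `q² - q + 1` is cyclic. -/
theorem exists_cyclic_gl_seven {F G : Type*} [Field F] [Fintype F] [Group G] [Finite G]
    (f : G →* GL (Fin 7) F) (hf : Function.Injective f) (l : ℕ) (hl : l.Prime) (hl5 : 5 ≤ l)
    (hdvd : l ∣ Nat.card F ^ 2 - Nat.card F + 1) :
    ∃ Q : Subgroup G, IsCyclic Q ∧ l.Coprime Q.index := by
  classical
  have := Fact.mk hl
  set q := Fintype.card F with hq
  rw [Nat.card_eq_fintype_card, ← hq] at hdvd
  have hq2 : 2 ≤ q := Fintype.one_lt_card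
  have hqmod : (q : ZMod l) ^ 2 = (q : ZMod l) - 1 := by
    have h0 : ((q ^ 2 - q + 1 : ℕ) : ZMod l) = 0 := (ZMod.natCast_eq_zero_iff _ _).2 hdvd
    rw [Nat.cast_add, Nat.cast_sub (Nat.le_self_pow two_ne_zero q)] at h0
    push_cast at h0
    linear_combination h0
  have hne : ∀ n : ℕ, 0 < n → n < l → (n : ZMod l) ≠ 0 := fun n h0 hn h => by
    have := Nat.le_of_dvd h0 ((ZMod.natCast_eq_zero_iff _ _).1 h); omega
  obtain ⟨p, hp⟩ := CharP.exists F
  have := Fact.mk (CharP.char_is_prime F p)
  let K := FiniteField.Extension F p 6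
  have hK : Nat.card K = q ^ 6 := by
    rw [FiniteField.natCard_extension, Nat.card_eq_fintype_card]
  let b : Module.Basis (Fin 7) F (K × F) := Module.finBasisOfFinrankEq F (K × F) (by
    rw [Module.finrank_prod, FiniteField.finrank_extension, Module.finrank_self])
  let ι : Kˣ →* GL (Fin 7) F :=
    (Units.map (Algebra.leftMulMatrix b).toRingHom.toMonoidHom).comp
      (Units.map (MonoidHom.inl K F))
  have hι : Function.Injective ι :=
    (Units.map_injective (Algebra.leftMulMatrix_injective b)).comp
      (Units.map_injective fun x y h => congrArg Prod.fst h)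
  let C := ι.range
  have hC : IsCyclic C := isCyclic_of_surjective ι.rangeRestrict ι.rangeRestrict_surjective
  have hCc : Nat.card C = q ^ 6 - 1 := by
    rw [← Nat.card_congr (MonoidHom.ofInjective hι).toEquiv, Nat.card_units, hK]
  have hidx : ¬ l ∣ C.index := by
    intro h
    have hcard := Matrix.card_GL_field (𝔽 := F) 7
    rw [← C.card_mul_index, hCc, ← hq] at hcard
    simp only [Fin.prod_univ_succ, Fin.prod_univ_zero, mul_one, Fin.val_zero, Fin.val_succ,
      pow_zero, zero_add, pow_one] at hcard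
    rw [show q ^ 7 - q = q * (q ^ 6 - 1) by rw [Nat.mul_sub, ← pow_succ', mul_one]] at hcard
    have e : C.index = (q ^ 7 - 1) * q * ((q ^ 7 - q ^ 2) * ((q ^ 7 - q ^ 3) *
        ((q ^ 7 - q ^ 4) * ((q ^ 7 - q ^ 5) * (q ^ 7 - q ^ 6))))) := by
      refine Nat.eq_of_mul_eq_mul_left (Nat.sub_pos_of_lt (Nat.one_lt_pow (n := 6) (by omega) hq2)) ?_
      norm_num at hcard
      rw [hcard]; ring
    have x3 : (q : ZMod l) ^ 3 = -1 := by
      rw [pow_succ, hqmod]; linear_combination hqmod
    have hx0 : (q : ZMod l) ≠ 0 := fun h0 => by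
      rw [h0] at x3; simp at x3
    have n2 := hne 2 (by norm_num) (by omega)
    have n3 := hne 3 (by norm_num) (by omega)
    push_cast at n2 n3
    have hz : ∀ k, k ≤ 6 → k ≠ 1 → ¬ l ∣ q ^ 7 - q ^ k := by
      intro k hk6 hk1 hd
      have e : (q : ZMod l) ^ 7 = (q : ZMod l) ^ k := by
        have h0 : ((q ^ 7 - q ^ k : ℕ) : ZMod l) = 0 := (ZMod.natCast_eq_zero_iff _ _).2 hd
        rw [Nat.cast_sub (Nat.pow_le_pow_right (by omega) (by omega))] at h0
        push_cast at h0
        exact sub_eq_zero.1 h0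
      rw [show (q : ZMod l) ^ 7 = q by linear_combination ((q : ZMod l) ^ 4 - q) * x3] at e
      interval_cases k
      · rw [pow_zero] at e; rw [e] at hqmod; simp at hqmod
      · exact hk1 rfl
      · rw [hqmod] at e
        have : (1 : ZMod l) = 0 := by linear_combination e
        exact one_ne_zero this
      · rw [x3] at e; rw [e] at hqmod
        exact n3 (by linear_combination hqmod)
      · exact n2 (mul_left_cancel₀ hx0 (a := (q : ZMod l)) (by linear_combination e + (q : ZMod l) * x3))
      · have h5 : (q : ZMod l) * 2 = 1 := by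
          linear_combination e + (q : ZMod l) ^ 2 * x3 - hqmod
        exact n3 (by linear_combination (4 : ZMod l) * hqmod + (2 * (q : ZMod l) - 1) * h5 * (-1))
      · have h6 : (q : ZMod l) = 1 := by
          linear_combination e + ((q : ZMod l) ^ 3 - 1) * x3
        rw [h6] at hqmod; simp at hqmod
    rw [e] at h
    rcases hl.dvd_mul.1 h with h' | h'
    · rcases hl.dvd_mul.1 h' with h' | h'
      · exact hz 0 (by norm_num) (by norm_num) (by rwa [pow_zero])
      · exact hx0 ((ZMod.natCast_eq_zero_iff _ _).2 h')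
    · rcases hl.dvd_mul.1 h' with h' | h'
      · exact hz 2 (by norm_num) (by norm_num) h'
      rcases hl.dvd_mul.1 h' with h' | h'
      · exact hz 3 (by norm_num) (by norm_num) h'
      rcases hl.dvd_mul.1 h' with h' | h'
      · exact hz 4 (by norm_num) (by norm_num) h'
      rcases hl.dvd_mul.1 h' with h' | h'
      · exact hz 5 (by norm_num) (by norm_num) h'
      · exact hz 6 le_rfl (by norm_num) h'
  -- a Sylow subgroup of `C` is one of the general linear group
  obtain ⟨S⟩ := (inferInstance : Nonempty (Sylow l C))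
  let S' : Subgroup (GL (Fin 7) F) := (S : Subgroup C).map C.subtype
  have hS'idx : ¬ l ∣ S'.index := by
    rw [Subgroup.index_map_subtype]
    exact fun h => (hl.dvd_mul.1 h).elim S.not_dvd_index hidx
  have hS'p : IsPGroup l S' := S.isPGroup'.map _
  let P : Sylow l (GL (Fin 7) F) := hS'p.toSylow hS'idx
  obtain ⟨Q⟩ := (inferInstance : Nonempty (Sylow l G))
  obtain ⟨R, hR⟩ := (Q.isPGroup'.map f).exists_le_sylow
  obtain ⟨g, hg⟩ := MulAction.exists_smul_eq (GL (Fin 7) F) P R
  have hPc : IsCyclic (P : Subgroup (GL (Fin 7) F)) := by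
    have : IsCyclic (S : Subgroup C) := inferInstance
    exact isCyclic_of_surjective _
      ((S : Subgroup C).equivMapOfInjective C.subtype C.subtype_injective).surjective
  have hRc : IsCyclic (R : Subgroup (GL (Fin 7) F)) := by
    rw [← hg]
    exact isCyclic_of_surjective _ (P.equiv (g • P)).surjective
  refine ⟨Q, ?_, (Nat.Prime.coprime_iff_not_dvd hl).2 Q.not_dvd_index⟩
  have : IsCyclic ((Q : Subgroup G).map f) :=
    isCyclic_of_injective (Subgroup.inclusion hR) (Subgroup.inclusion_injective hR)
  exact isCyclic_of_injective ((Q : Subgroup G).equivMapOfInjective f hf).toMonoidHom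
    (MulEquiv.injective _)

end Cfsg.Agent.H64.ReeMult
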