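/-
The 2-part: an elementary abelian subgroup of order 8 with an automiser of order 7.
-/
import Cfsg.Agent.H50.SchurRigid
import Cfsg.Agent.H50.CommForm

set_option autoImplicit false

namespace Cfsg.Agent.H64.ReeMult

open scoped commutatorElement
open Subgroup

universe u

/-- A fixed-point-free automorphism of order seven of a group of order eight is transitive. -/
theorem seven_orbit {E : Type*} [CommGroup E] [Finite E] (h8 : Nat.card E = 8) (α : MulAut E)
    (hα : orderOf α = 7) {a : E} (ha : a ≠ 1) :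
    Function.Injective (fun i : Fin 7 => (α ^ (i : ℕ)) a) ∧
      ∀ b : E, b = 1 ∨ ∃ i : Fin 7, (α ^ (i : ℕ)) a = b := by
  classical
  have := Fintype.ofFinite E
  have h7 : α ^ 7 = 1 := hα ▸ pow_orderOf_eq_one α
  -- an element fixed by a nontrivial power forces a trivial permutation
  have key : ∀ c : E, c ≠ 1 → α c ≠ c := by
    intro c hc hfix
    have := Fact.mk (show Nat.Prime 7 by norm_num)
    have hp : IsPGroup 7 (Subgroup.zpowers α) :=
      IsPGroup.of_card (n := 1) (by rw [Nat.card_zpowers, hα, pow_one])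
    have hmod := hp.card_modEq_card_fixedPoints E
    set Fx := MulAction.fixedPoints (Subgroup.zpowers α) E
    have hmem : ∀ x, x ∈ Fx ↔ α x = x := fun x => by
      refine ⟨fun h => h ⟨α, Subgroup.mem_zpowers α⟩, fun h ⟨β, hβ⟩ => ?_⟩
      obtain ⟨n, rfl⟩ := hβ
      exact MulAction.mem_stabilizer_iff.1
        (zpow_mem (MulAction.mem_stabilizer_iff.2 (show α • x = x from h)) n)
    have h2 : 1 < Nat.card Fx := by
      rw [Finite.one_lt_card_iff_nontrivial]
      exact ⟨⟨⟨1, (hmem 1).2 (map_one α)⟩, ⟨c, (hmem c).2 hfix⟩, fun h =>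
        hc (congrArg Subtype.val h).symm⟩⟩
    have hle : Nat.card Fx ≤ 8 := h8 ▸ Finite.card_subtype_le _
    have h88 : Nat.card Fx = 8 := by
      rw [h8, Nat.ModEq] at hmod
      omega
    have hall : Fx = Set.univ := Set.eq_of_subset_of_ncard_le (Set.subset_univ _) (by
      rw [Set.ncard_univ, h8, ← Nat.card_coe_set_eq, h88])
    have : α = 1 := MulEquiv.ext fun x => (hmem x).1 (hall ▸ Set.mem_univ x)
    rw [this, orderOf_one] at hα
    omega
  have hinj : Function.Injective (fun i : Fin 7 => (α ^ (i : ℕ)) a) := by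
    intro i j hij
    wlog hle : (i : ℕ) ≤ j generalizing i j with H
    · exact (H hij.symm (by omega)).symm
    by_contra hne
    have hd : (j : ℕ) - i ≠ 0 := by
      intro h; exact hne (Fin.ext (by omega))
    have hfix : (α ^ ((j : ℕ) - i)) a = a := by
      refine (α ^ (i : ℕ)).injective ?_
      rw [← MulAut.mul_apply, ← pow_add, Nat.add_sub_cancel' hle]; exact hij.symm
    have hfix' : ∀ n : ℕ, ((α ^ ((j : ℕ) - i)) ^ n) a = a := fun n => by
      induction n with
      | zero => simp
      | succ n ih => rw [pow_succ, MulAut.mul_apply, hfix, ih]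
    have hco : Nat.Coprime ((j : ℕ) - i) 7 :=
      ((Nat.Prime.coprime_iff_not_dvd (by norm_num)).2 fun h => hd
        (Nat.eq_zero_of_dvd_of_lt h (by omega))).symm
    obtain ⟨n, hn⟩ := exists_pow_eq_self_of_coprime (x := α) (n := (j : ℕ) - i) (by rwa [hα])
    refine key a ha ?_
    conv_lhs => rw [← hn]
    exact hfix' n
  refine ⟨hinj, fun b => ?_⟩
  by_contra hb
  push Not at hb
  have h1 : ∀ i : Fin 7, (α ^ (i : ℕ)) a ≠ 1 := fun i h =>
    ha ((α ^ (i : ℕ)).injective (h.trans (map_one _).symm))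
  let g : Option (Option (Fin 7)) → E
    | none => 1
    | some none => b
    | some (some i) => (α ^ (i : ℕ)) a
  have hg : Function.Injective g := by
    rintro (_ | _ | i) (_ | _ | j) h
    · rfl
    · exact (hb.1 h.symm).elim
    · exact (h1 j h.symm).elim
    · exact (hb.1 h).elim
    · rfl
    · exact (hb.2 j h.symm).elim
    · exact (h1 i h).elim
    · exact (hb.2 i h).elim
    · exact congrArg (fun i => some (some i)) (hinj h)
  have := Nat.card_le_card_of_injective g hg
  rw [h8, Nat.card_eq_fintype_card] at this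
  simp at this

/-- A symmetric multiplicative pairing of exponent two invariant under an automorphism of order
seven of a group of order eight is trivial. -/
theorem seven_form {E : Type*} [CommGroup E] [Finite E] (h8 : Nat.card E = 8) (α : MulAut E)
    (hα : orderOf α = 7) {M : Type*} [CommGroup M] (c : E → E → M) (hdiag : ∀ a, c a a = 1)
    (hsymm : ∀ a b, c b a = c a b) (hmul : ∀ a b b', c a (b * b') = c a b * c a b')
    (hsq : ∀ a b, c a b * c a b = 1)
    (hinv : ∀ a b, c (α a) (α b) = c a b) (a b : E) : c a b = 1 := by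
  classical
  have hone : ∀ a, c a 1 = 1 := fun a => by
    have := hmul a 1 1
    rw [mul_one] at this
    exact mul_eq_left.1 this.symm
  rcases eq_or_ne a 1 with rfl | ha
  · rw [← hsymm]; exact hone b
  have hinvn : ∀ (n : ℕ) x y, c ((α ^ n) x) ((α ^ n) y) = c x y := fun n => by
    induction n with
    | zero => simp
    | succ n ih => intro x y; rw [pow_succ, MulAut.mul_apply, MulAut.mul_apply, ih, hinv]
  have h7 : α ^ 7 = 1 := hα ▸ pow_orderOf_eq_one α
  obtain ⟨hinj, hcov⟩ := seven_orbit h8 α hα ha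
  let e : ℕ → E := fun i => (α ^ i) a
  let X : ℕ → M := fun i => c a (e i)
  have hshift : ∀ i j, c (e i) (e (i + j)) = X j := fun i j => by
    show c ((α ^ i) a) ((α ^ (i + j)) a) = c a ((α ^ j) a)
    rw [pow_add, MulAut.mul_apply, hinvn]
  have hneg : ∀ i ≤ 7, X (7 - i) = X i := by
    intro i hi
    have := hshift (7 - i) i
    rw [Nat.sub_add_cancel hi, show e 7 = a by simp [e, h7]] at this
    rw [← this, hsymm]
  have hne : ∀ i j : ℕ, i < 7 → j < 7 → i ≠ j → e i ≠ e j := fun i j hi hj h e' =>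
    h (congrArg Fin.val (hinj (a₁ := ⟨i, hi⟩) (a₂ := ⟨j, hj⟩) e'))
  have he0 : e 0 = a := by simp [e]
  -- the image of `a * α a` in the orbit
  have hrel : ∃ k, 2 ≤ k ∧ k < 7 ∧ e 0 * e 1 = e k := by
    rcases hcov (e 0 * e 1) with h | ⟨⟨k, hk⟩, h⟩
    · exfalso
      have e1 : e 1 = (e 0)⁻¹ := eq_inv_of_mul_eq_one_right h
      have e2 : e 2 = e 0 := by
        show (α ^ 2) a = (α ^ 0) a
        have : α a = a⁻¹ := by simpa [e] using e1
        rw [pow_two, MulAut.mul_apply, this, map_inv, this, inv_inv, pow_zero]; rfl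
      exact hne 2 0 (by norm_num) (by norm_num) (by norm_num) e2
    · refine ⟨k, ?_, hk, h.symm⟩
      by_contra hk2
      interval_cases k
      · have h' : e 0 * e 1 = e 0 := h.symm
        rw [mul_eq_left] at h'
        exact ha ((α ^ 1).injective (h'.trans (map_one _).symm))
      · have h' : e 0 * e 1 = e 1 := h.symm
        rw [mul_eq_right] at h'
        exact ha (by simpa [e] using h')
  obtain ⟨k, hk2, hk7, hk⟩ := hrel
  have rel : ∀ i, X i * X (i + 1) = X (i + k) := fun i => by
    show c a _ * c a _ = c a _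
    rw [← hmul]
    congr 1
    show (α ^ i) a * (α ^ (i + 1)) a = (α ^ (i + k)) a
    rw [pow_add, MulAut.mul_apply, pow_add, MulAut.mul_apply, ← map_mul]
    have := congrArg (α ^ i) hk
    simpa [e] using this
  have x0 : X 0 = 1 := by show c a (e 0) = 1; rw [he0, hdiag]
  have per : ∀ i, X (i + 7) = X i := fun i => by
    show c a _ = c a _
    congr 1
    show (α ^ (i + 7)) a = (α ^ i) a
    rw [pow_add, h7, mul_one]
  have n1 := hneg 1 (by norm_num)
  have n2 := hneg 2 (by norm_num)
  have n3 := hneg 3 (by norm_num)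
  norm_num at n1 n2 n3
  have all : X 1 = 1 ∧ X 2 = 1 ∧ X 3 = 1 := by
    have r0 := rel 0
    have r1 := rel 1
    have r2 := rel 2
    have r3 := rel 3
    have r4 := rel 4
    have r5 := rel 5
    have r6 := rel 6
    have p0 := per 0
    have p1 := per 1
    have p2 := per 2
    have p3 := per 3
    have p4 := per 4
    have p5 := per 5
    norm_num at r0 r1 r2 r3 r4 r5 r6 p0 p1 p2 p3 p4 p5
    have sq : ∀ i, X i * X i = 1 := fun i => hsq a _
    have s1 := sq 1
    have s2 := sq 2
    have s3 := sq 3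
    interval_cases k <;>
      · norm_num [x0, n1, n2, n3, p0, p1, p2, p3, p4, p5] at r0 r1 r2 r3 r4 r5 r6
        simp_all
  rcases hcov b with rfl | ⟨⟨i, hi⟩, rfl⟩
  · exact hone a
  show X i = 1
  obtain ⟨h1, h2, h3⟩ := all
  interval_cases i
  · exact x0
  · exact h1
  · exact h2
  · exact h3
  · rw [n3, h3]
  · rw [n2, h2]
  · rw [n1, h1]

variable {G : Type u} [Group G]

/-- The 2-part of the multiplier is trivial. -/
theorem two_part {E : Type} [CommGroup E] [Finite E] (h8 : Nat.card E = 8)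
    (hsq : ∀ x : E, x * x = 1) (j : E →* G) (hj : Nat.Coprime 2 j.range.index) (n : G)
    (α : MulAut E) (hα : orderOf α = 7) (hn : ∀ x, n * j x * n⁻¹ = j (α x))
    {Γ : Type u} [Group Γ] [Finite Γ] {σ : Γ →* G} (hσ : IsStemExtension σ)
    (z : Γ) (hz : z ∈ σ.ker) (hzp : z ^ 2 = 1) : z = 1 := by
  obtain ⟨hzQ, hzc⟩ := H50.mem_commutator_comap hσ j.range hj z hz hzp
  obtain ⟨s, hs⟩ : ∃ s : E → Γ, ∀ x, σ (s x) = j x :=
    ⟨fun x => (hσ.1 (j x)).choose, fun x => (hσ.1 (j x)).choose_spec⟩
  obtain ⟨N, hN⟩ := hσ.1 n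
  have cen : ∀ {w : Γ}, σ w = 1 → ∀ g : Γ, Commute g w := fun hw g =>
    mem_center_iff.1 (hσ.2.1 (MonoidHom.mem_ker.2 hw)) g
  have lift : ∀ {g g' : Γ}, σ g = σ g' → ∃ w, σ w = 1 ∧ g = g' * w := fun {g g'} hgg =>
    ⟨g'⁻¹ * g, by simp [hgg], by group⟩
  have indep : ∀ {g k g' k' : Γ}, σ g = σ g' → σ k = σ k' → ⁅g, k⁆ = ⁅g', k'⁆ := by
    intro g k g' k' e1 e2
    obtain ⟨w1, hw1, rfl⟩ := lift e1
    obtain ⟨w2, hw2, rfl⟩ := lift e2
    rw [H50.commutator_mul_left_of_commute (cen hw1 _).symm,
      H50.commutator_mul_right_of_commute (cen hw2 _)]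
  let K : Subgroup Γ := σ.ker
  let _ : CommGroup K :=
    { (inferInstance : Group K) with
      mul_comm := fun x y => Subtype.ext (cen (MonoidHom.mem_ker.1 y.2) x).eq }
  have hk : ∀ x y, σ ⁅s x, s y⁆ = 1 := fun x y => by
    rw [map_commutatorElement, hs, hs, commutatorElement_eq_one_iff_mul_comm, ← map_mul, ← map_mul,
      mul_comm]
  have ar := H50.commForm_add_right (X := E) (Y := Additive E) s (fun y => s y.toMul)
    (fun y y' => by
      obtain ⟨w, hw, e⟩ := lift (g := s (y + y').toMul) (g' := s y.toMul * s y'.toMul)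
        (by rw [toMul_add, map_mul, hs, hs, hs, map_mul])
      exact ⟨w, fun _ => cen hw _, e⟩)
    (fun x y y' => cen (hk x _) _) (fun x y y' => cen (hk x _) _)
  let c : E → E → K := fun x y => ⟨⁅s x, s y⁆, hk x y⟩
  have cmul : ∀ x y y', c x (y * y') = c x y * c x y' := fun x y y' =>
    Subtype.ext (ar x (Additive.ofMul y) (Additive.ofMul y'))
  have csymm' : ∀ x y, c y x = (c x y)⁻¹ := fun x y =>
    Subtype.ext (commutatorElement_inv (s x) (s y)).symm
  have c1 : ∀ x, c x 1 = 1 := fun x => by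
    have := cmul x 1 1
    rw [mul_one] at this
    exact mul_eq_left.1 this.symm
  have csq : ∀ x y, c x y * c x y = 1 := fun x y => by rw [← cmul, hsq, c1]
  have h0 : ∀ x y, c x y = 1 := seven_form h8 α hα c
    (fun x => Subtype.ext (commutatorElement_self _))
    (fun x y => by rw [csymm', inv_eq_of_mul_eq_one_right (csq x y)]) cmul csq
    (fun x y => Subtype.ext (by
      show ⁅s (α x), s (α y)⁆ = ⁅s x, s y⁆
      rw [indep (g' := N * s x * N⁻¹) (k' := N * s y * N⁻¹)
        (by rw [map_mul, map_mul, map_inv, hN, hs, hs, hn])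
        (by rw [map_mul, map_mul, map_inv, hN, hs, hs, hn]),
        show ⁅N * s x * N⁻¹, N * s y * N⁻¹⁆ = N * ⁅s x, s y⁆ * N⁻¹ by
          simp only [commutatorElement_def]; group,
        (cen (hk x y) N).eq, mul_inv_cancel_right]))
  have : _root_.commutator ↥(j.range.comap σ) ≤ ⊥ := by
    rw [_root_.commutator_def, commutator_le]
    intro g _ k _
    obtain ⟨x, hx⟩ := g.2
    obtain ⟨y, hy⟩ := k.2
    rw [mem_bot]
    refine Subtype.ext ?_
    show ⁅(g : Γ), (k : Γ)⁆ = 1
    rw [indep (g' := s x) (k' := s y) (by rw [hs]; exact hx.symm) (by rw [hs]; exact hy.symm)]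
    exact congrArg Subtype.val (h0 x y)
  exact congrArg Subtype.val (mem_bot.1 (this hzc))

end Cfsg.Agent.H64.ReeMult
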