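/-
Trivial Schur multiplier of the small Ree groups.
-/
import Cfsg.Agent.H38.Ree.NormTwo
import Cfsg.Agent.H38.Ree.ThreePoint
import Cfsg.Agent.H64.ReeMult.ThreePart
import Cfsg.Agent.H64.ReeMult.TwoPart
import Cfsg.Agent.H64.ReeMult.Tori

set_option autoImplicit false
set_option maxRecDepth 100000

namespace Cfsg.Agent.H64.ReeMult

open Cfsg.Lie Cfsg.Agent.H38.Ree

universe v

variable {K : Type v} [Field K] [Fintype K] (P : Par K)

/-- The characters on the three layers. -/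
def chA : Kˣ →* Kˣ where
  toFun y := ((y ^ P.e) ^ 3)⁻¹ * y ^ 2
  map_one' := by simp
  map_mul' a b := by simp only [mul_pow, mul_inv_rev]; ac_rfl

/-- The middle layer. -/
def chC : Kˣ →* Kˣ where
  toFun y := (y ^ P.e)⁻¹ * y
  map_one' := by simp
  map_mul' a b := by simp only [mul_pow, mul_inv_rev]; ac_rfl

/-- The bottom layer. -/
def chD : Kˣ →* Kˣ := powMonoidHom P.e

/-- Coordinates of the Borel subgroup. -/
noncomputable def borel : Borel K ↥(twistedG2 K P.e) where
  v a c d := P.lift (P.U1 a c d) (P.σ_U1 a c d)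
  split a c d := P.inc_inj (by
    show P.U1 a c d = P.U1 a 0 0 * P.U1 0 c d
    rw [P.U1_mul]; simp [Par.th, P.e_pos.ne'])
  add c d c' d' := P.inc_inj (by
    show P.U1 0 c d * P.U1 0 c' d' = P.U1 0 (c + c') (d + d')
    rw [P.U1_mul]; simp [Par.th, P.e_pos.ne'])
  f a c := -(P.th a * c)
  f_zero a := by simp
  comm a c d := P.inc_inj (by
    show P.U1 0 c d * P.U1 a 0 0 = P.U1 a c (d + -(P.th a * c))
    rw [P.U1_mul]; simp [Par.th, P.e_pos.ne', sub_eq_add_neg])
  g a a' := -(a' * P.th a)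
  k a a' := -(a' * P.th a ^ 2) + P.th a' * (a' * P.th a)
  addTop a a' := P.inc_inj (by
    show P.U1 a 0 0 * P.U1 a' 0 0 = P.U1 _ _ _
    rw [P.U1_mul]; congr 1 <;> ring)
  χa := chA P
  χc := chC P
  χd := chD P
  h :=
    { toFun := fun y => P.lift (P.hp y) (P.σ_hp y)
      map_one' := P.inc_inj (map_one P.hp)
      map_mul' := fun a b => P.inc_inj (map_mul P.hp a b) }
  conj t a c d := P.inc_inj (by
    show P.hp t * P.U1 a c d * (P.hp t)⁻¹ = P.U1 _ _ _
    rw [P.hp_conj_U1, P.χ6, P.χ8, P.χ9]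
    rfl)

theorem sign (hodd : Odd P.e) : chA P (-1) = -1 ∧ chC P (-1) = 1 ∧ chD P (-1) = -1 := by
  refine ⟨?_, ?_, ?_⟩
  · show (((-1 : Kˣ) ^ P.e) ^ 3)⁻¹ * (-1) ^ 2 = -1
    rw [hodd.neg_one_pow, (show Odd 3 by decide).neg_one_pow, neg_one_sq, mul_one]
    exact inv_eq_of_mul_eq_one_left (by simp)
  · show ((-1 : Kˣ) ^ P.e)⁻¹ * -1 = 1
    rw [hodd.neg_one_pow, inv_mul_cancel]
  · exact hodd.neg_one_pow

theorem multiplier {m : ℕ} (hm : 1 ≤ m) (hK : Fintype.card K = 3 ^ (2 * m + 1)) :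
    Cfsg.HasCyclicSchurMultiplier ↥(twistedG2 K P.e) 1 := by
  classical
  have := P.char
  have : Finite ↥(twistedG2 K P.e) := Subtype.finite
  set q := Nat.card K with hq
  have hq27 : 27 ≤ q := by
    rw [hq, Nat.card_eq_fintype_card, hK]
    exact le_trans (by norm_num) (Nat.pow_le_pow_right (show 1 ≤ 3 by norm_num) (show 3 ≤ 2 * m + 1 by omega))
  have hq3 : 3 ∣ q := by
    rw [hq, Nat.card_eq_fintype_card, hK]; exact dvd_pow_self 3 (by omega)
  have he1 : 1 < P.e := by
    by_contra h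
    have := P.e_pos
    have h1 : P.e = 1 := by omega
    have := P.card_nat
    rw [h1, ← hq] at this
    omega
  have hcardT : Nat.card ↥(twistedG2 K P.e) = q ^ 3 * (q - 1) * ((q + 1) * (q ^ 2 - q + 1)) := by
    rw [P.card_T, ← hq]
    congr 1
    have : q ≤ q ^ 2 := Nat.le_self_pow two_ne_zero q
    zify [this]; ring
  have h3q : ∀ l : ℕ, l.Prime → l ∣ q → l = 3 := fun l hl h => by
    rw [hq, Nat.card_eq_fintype_card, hK] at h
    exact (Nat.prime_dvd_prime_iff_eq hl Nat.prime_three).1 (hl.dvd_of_dvd_pow h)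
  refine H50.hasTrivialMultiplier_of_forall_prime fun Γ _ _ σ hσ l hl z hz hzl => ?_
  have := Fact.mk hl
  have hidx : ∀ Q : Subgroup ↥(twistedG2 K P.e), ∀ r : ℕ,
      Nat.card Q * r = q ^ 3 * (q - 1) * ((q + 1) * (q ^ 2 - q + 1)) → Q.index = r := fun Q r h => by
    have h' := Q.card_mul_index
    rw [hcardT, ← h] at h'
    exact Nat.eq_of_mul_eq_mul_left Nat.card_pos h'
  by_cases hl2 : l = 2
  · subst hl2
    have : Fact (Nat.Prime 7) := ⟨by norm_num⟩
    obtain ⟨⟨α, n, hn⟩, hα⟩ := exists_prime_orderOf_dvd_card' (G := P.autHom.range) 7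
      (by rw [P.card_range (by omega)]; norm_num)
    rw [← Subgroup.orderOf_coe] at hα
    refine two_part (by rw [Nat.card_eq_fintype_card]; rfl) (by decide +kernel +revert) P.eight ?_
      (n : ↥(twistedG2 K P.e)) α hα (fun x => ?_) hσ z hz hzl
    · obtain ⟨r, hr, e⟩ := P.card_two_part
      rw [hcardT] at e
      rw [hidx P.eight.range r (by rw [P.card_eight, e])]
      exact Nat.coprime_two_left.2 hr
    · rw [← hn, P.autHom_spec]
  by_cases hl3 : l = 3
  · subst hl3
    have hodd := P.odd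
    obtain ⟨ha, hc, hd⟩ := sign P hodd
    have hinjA : Function.Injective (chA P) := (injective_iff_map_eq_one _).2 fun y hy =>
      P.χ6_eq_one ((P.χ6 y).trans hy)
    have h3 : (3 : K) = 0 := P.three_eq
    refine (borel P).three_part P.UT (fun x => ?_) ?_ ?_
      (noTwist_self hm hK _ fun y hy => P.χ8_sq ((P.χ8 y).trans hy))
      (noTwist_sign h3 hd hc).symm
      (noTwist_self hm hK _ fun y hy => by rw [P.χ9_eq_one ((P.χ9 y).trans hy), one_pow])
      (noTwist_top_bottom he1 P.card (fun a b => P.th_add a b) hodd _ _ (fun _ => rfl)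
        (fun _ => rfl) hinjA)
      (noTwist_sign h3 ha hc)
      (noTwist_self hm hK _ fun y hy => by rw [P.χ6_eq_one ((P.χ6 y).trans hy), one_pow])
      hσ z hz hzl
    · constructor
      · intro hx
        obtain ⟨a, c, d, e⟩ := (P.fixed_iff (v := P.inc x) (sysU_mem.2 hx)).1 (P.inc_fixed x)
        exact ⟨a, c, d, P.inc_inj e.symm⟩
      · rintro ⟨a, c, d, rfl⟩
        exact sysU_mem.1 (P.U1_mem a c d)
    · rw [hidx P.UT ((q - 1) * ((q + 1) * (q ^ 2 - q + 1))) (by rw [P.card_UT, ← hq]; ring),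
        Nat.Prime.coprime_iff_not_dvd Nat.prime_three]
      intro h
      apply P.not_dvd_cofactor
      rw [← hq]
      refine h.trans (dvd_of_eq ?_)
      congr 1
      have : q ≤ q ^ 2 := Nat.le_self_pow two_ne_zero q
      zify [this]; ring
    · rw [Nat.card_units, ← hq, Nat.Prime.coprime_iff_not_dvd Nat.prime_three]
      omega
  have hlq : ¬ l ∣ q := fun h => hl3 (h3q l hl h)
  have hl5 : 5 ≤ l := by
    have := hl.two_le
    rcases eq_or_ne l 4 with rfl | h4
    · norm_num at hl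
    omega
  have hlsmall : ∀ c : ℕ, 0 < c → c < 5 → ¬ l ∣ c := fun c h0 h5 h => by
    have := Nat.le_of_dvd h0 h; omega
  have hmod : ∀ x : ℕ, l ∣ x ↔ (x : ZMod l) = 0 := fun x => (ZMod.natCast_eq_zero_iff _ _).symm
  have hsq : (((q ^ 2 - q + 1 : ℕ)) : ZMod l) = (q : ZMod l) ^ 2 - q + 1 := by
    rw [Nat.cast_add, Nat.cast_sub (Nat.le_self_pow two_ne_zero q)]; push_cast; ring
  by_cases h6 : l ∣ q ^ 2 - q + 1
  · obtain ⟨Q, hQ, hQi⟩ := exists_cyclic_gl_seven
      ((H37.Isog.goodG2.idealHom (F := K) (H38.Ree.Q K).ord).comp P.inc)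
      ((P.idealHom_injective).comp P.inc_inj) l hl hl5 (by rwa [← hq])
    exact H50.eq_one_of_rigidAt hσ Q hQi (H50.rigidAt_of_isCyclic l _) z hz hzl
  by_cases h1 : l ∣ q - 1
  · obtain ⟨g, hg⟩ := IsCyclic.exists_ofOrder_eq_natCard (α := Kˣ)
    have hgt : orderOf ((borel P).h g) = q - 1 := by
      rw [orderOf_injective (borel P).h (fun a b e => P.hp_inj (congrArg P.inc e)), hg,
        Nat.card_units]
    refine H50.eq_one_of_rigidAt hσ (Subgroup.zpowers ((borel P).h g)) ?_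
      (H50.rigidAt_of_isCyclic l _) z hz hzl
    rw [hidx _ (q ^ 3 * ((q + 1) * (q ^ 2 - q + 1))) (by rw [Nat.card_zpowers, hgt]; ring),
      Nat.Prime.coprime_iff_not_dvd hl]
    intro h
    rcases hl.dvd_mul.1 h with h | h
    · exact hlq (hl.dvd_of_dvd_pow h)
    rcases hl.dvd_mul.1 h with h | h
    · exact hlsmall 2 (by norm_num) (by norm_num) (by
        have := Nat.dvd_sub h h1; rwa [show q + 1 - (q - 1) = 2 by omega] at this)
    · exact h6 h
  by_cases h2 : l ∣ q + 1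
  · obtain ⟨g, hg⟩ := exists_sl_two_order (F := K)
    let x : ↥(twistedG2 K P.e) := P.lift (P.Φ g) (P.mem_CA.1 (P.Φ_mem g)).1
    have hxk : x ^ (q + 1) = 1 := P.inc_inj (by
      rw [map_pow, map_one, show P.inc x = P.Φ g from rfl, ← map_pow,
        show g ^ (q + 1) = 1 by (rw [hq, ← hg]; exact pow_orderOf_eq_one g), map_one])
    have hk : q + 1 ∣ 2 * orderOf x := by
      have h := congrArg P.inc (pow_orderOf_eq_one x)
      rw [map_pow, map_one, show P.inc x = P.Φ g from rfl, ← map_pow, P.Φ_ker] at h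
      rw [hq, ← hg, orderOf_dvd_iff_pow_eq_one, pow_mul']
      rcases h with h | h <;> rw [h]
      · exact one_pow _
      · exact neg_one_sq
    obtain ⟨d, hd⟩ := orderOf_dvd_of_pow_eq_one hxk
    refine H50.eq_one_of_rigidAt hσ (Subgroup.zpowers x) ?_ (H50.rigidAt_of_isCyclic l _) z hz hzl
    rw [hidx _ (d * (q ^ 3 * (q - 1) * (q ^ 2 - q + 1))) (by rw [Nat.card_zpowers, hd]; ring),
      Nat.Prime.coprime_iff_not_dvd hl]
    intro h
    rcases hl.dvd_mul.1 h with h | h
    · refine hlsmall 2 (by norm_num) (by norm_num) (h.trans ?_)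
      rw [hd, mul_comm 2] at hk
      exact Nat.dvd_of_mul_dvd_mul_left (orderOf_pos x) hk
    rcases hl.dvd_mul.1 h with h | h
    · rcases hl.dvd_mul.1 h with h | h
      · exact hlq (hl.dvd_of_dvd_pow h)
      · exact h1 h
    · exact h6 h
  refine H50.eq_one_of_rigidAt hσ ⊥ ?_ (H50.rigidAt_of_isCyclic l _) z hz hzl
  rw [Subgroup.index_bot, hcardT, Nat.Prime.coprime_iff_not_dvd hl]
  intro h
  rcases hl.dvd_mul.1 h with h | h
  · rcases hl.dvd_mul.1 h with h | h
    · exact hlq (hl.dvd_of_dvd_pow h)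
    · exact h1 h
  · rcases hl.dvd_mul.1 h with h | h
    · exact h2 h
    · exact h6 h

end Cfsg.Agent.H64.ReeMult
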